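import Mathlib

/-!
# First cohomology of a finite group generated by one element

A `1`-cocycle is determined by its value at the generator, any element killed by the norm occurs,
and coboundaries correspond to the image of `ρ g - 1`.
-/

set_option autoImplicit false

universe u

open CategoryTheory groupCohomology

namespace Groth.Agent.ASCoverLib

variable {k G : Type u} [CommRing k] [Group G]

/-- The elements killed by `∑ i < orderOf g, ρ g ^ i`. -/
noncomputable def normKer (A : Rep k G) (g : G) : Submodule k A.V :=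
  LinearMap.ker (∑ i ∈ Finset.range (orderOf g), A.ρ g ^ i)

variable {A : Rep k G} {g : G}

theorem mem_normKer {x : A.V} :
    x ∈ normKer A g ↔ ∑ i ∈ Finset.range (orderOf g), (A.ρ g ^ i) x = 0 := by
  simp [normKer, LinearMap.sum_apply]

/-- The value of a cocycle at a power of `g`. -/
theorem cocycle_apply_pow (f : cocycles₁ A) (g : G) (m : ℕ) :
    f (g ^ m) = ∑ i ∈ Finset.range m, (A.ρ g ^ i) (f g) := by
  induction m with
  | zero => simp
  | succ m ih =>
    rw [pow_succ, (mem_cocycles₁_iff f).1 f.2, ih, map_pow, Finset.sum_range_succ, add_comm]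

variable (A g) in
/-- Evaluation of cocycles at the generator. -/
noncomputable def evalGen : cocycles₁ A →ₗ[k] normKer A g where
  toFun f := ⟨f g, mem_normKer.2 (by rw [← cocycle_apply_pow, pow_orderOf_eq_one, cocycles₁_map_one])⟩
  map_add' _ _ := rfl
  map_smul' _ _ := rfl

theorem periodic_sum (x : normKer A g) (m q : ℕ) :
    ∑ i ∈ Finset.range (m + orderOf g * q), (A.ρ g ^ i) x.1 = ∑ i ∈ Finset.range m, (A.ρ g ^ i) x.1 := by
  induction q with
  | zero => simp
  | succ q ih =>
    rw [Nat.mul_succ, ← Nat.add_assoc, Finset.sum_range_add, ih]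
    have e : ∀ i, (A.ρ g ^ (m + orderOf g * q + i)) x.1 = (A.ρ g ^ (m + orderOf g * q)) ((A.ρ g ^ i) x.1) :=
      fun i => by rw [pow_add, Module.End.mul_apply]
    simp only [e]
    rw [← map_sum, mem_normKer.1 x.2, map_zero, add_zero]

theorem sum_mod (x : normKer A g) (m : ℕ) :
    ∑ i ∈ Finset.range m, (A.ρ g ^ i) x.1 = ∑ i ∈ Finset.range (m % orderOf g), (A.ρ g ^ i) x.1 := by
  conv_lhs => rw [← Nat.mod_add_div m (orderOf g)]
  exact periodic_sum x _ _

variable [Finite G] (hg : ∀ x : G, x ∈ Subgroup.zpowers g)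
include hg

theorem evalGen_bijective : Function.Bijective (evalGen A g) := by
  have hpow : ∀ x : G, ∃ m : ℕ, g ^ m = x := fun x =>
    (Submonoid.mem_powers_iff _ _).1 (mem_powers_iff_mem_zpowers.2 (hg x))
  refine ⟨fun f f' h => cocycles₁_ext fun x => ?_, fun x => ?_⟩
  · obtain ⟨m, rfl⟩ := hpow x
    have h' : f g = f' g := congrArg Subtype.val h
    rw [cocycle_apply_pow, cocycle_apply_pow, h']
  choose e he using hpow
  let f : G → A.V := fun y => ∑ i ∈ Finset.range (e y), (A.ρ g ^ i) x.1
  have hf : ∀ m, f (g ^ m) = ∑ i ∈ Finset.range m, (A.ρ g ^ i) x.1 := fun m => by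
    show ∑ i ∈ Finset.range (e (g ^ m)), (A.ρ g ^ i) x.1 = _
    rw [sum_mod x m, sum_mod x (e (g ^ m)), pow_eq_pow_iff_modEq.1 (he (g ^ m))]
  refine ⟨⟨f, (mem_cocycles₁_iff f).2 fun y z => ?_⟩, Subtype.ext ?_⟩
  · rw [← he y, ← he z, ← pow_add, hf, hf, hf, Finset.sum_range_add, map_pow, map_sum, add_comm]
    simp only [pow_add, Module.End.mul_apply]
  · have h := hf 1
    simp only [pow_one, Finset.range_one, Finset.sum_singleton, pow_zero, Module.End.one_apply] at h
    exact h

variable (A) in
/-- The class in `H¹` of an element killed by the norm. -/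
noncomputable def classMap : normKer A g →ₗ[k] H1 A :=
  (H1π A).hom ∘ₗ (LinearEquiv.ofBijective (evalGen A g) (evalGen_bijective hg)).symm.toLinearMap

theorem classMap_evalGen (f : cocycles₁ A) : classMap A hg (evalGen A g f) = H1π A f := by
  have h : (LinearEquiv.ofBijective (evalGen A g) (evalGen_bijective hg)).symm (evalGen A g f) = f :=
    LinearEquiv.symm_apply_apply (LinearEquiv.ofBijective (evalGen A g) (evalGen_bijective hg)) f
  simp [classMap, h]

theorem classMap_surjective : Function.Surjective (classMap A hg) := fun c =>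
  H1_induction_on c fun f => ⟨evalGen A g f, classMap_evalGen hg f⟩

theorem classMap_eq_zero_iff (x : normKer A g) :
    classMap A hg x = 0 ↔ ∃ y, A.ρ g y - y = x.1 := by
  obtain ⟨f, rfl⟩ := (evalGen_bijective hg).2 x
  rw [classMap_evalGen, H1π_eq_zero_iff]
  refine ⟨fun ⟨y, hy⟩ => ⟨y, ?_⟩, fun ⟨y, hy⟩ => ⟨y, ?_⟩⟩
  · simpa [evalGen] using congrFun hy g
  · have h : (⟨d₀₁ A y, d₀₁_apply_mem_cocycles₁ y⟩ : cocycles₁ A) = f := by
      refine (evalGen_bijective hg).1 (Subtype.ext ?_)
      show (d₀₁ A y) g = f g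
      simpa [evalGen] using hy
    exact congrArg Subtype.val h

theorem map_classMap {B : Rep k G} (φ : A ⟶ B) (x : normKer A g) (y : normKer B g)
    (h : φ.hom x.1 = y.1) :
    ((groupCohomology.functor k G 1).map φ).hom (classMap A hg x) = classMap B hg y := by
  obtain ⟨f, rfl⟩ := (evalGen_bijective hg).2 x
  rw [classMap_evalGen]
  have e : ((groupCohomology.functor k G 1).map φ).hom (H1π A f) =
      H1π B (mapCocycles₁ (MonoidHom.id G) φ f) :=
    H1π_comp_map_apply (MonoidHom.id G) φ f
  rw [e, ← classMap_evalGen hg]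
  refine congrArg _ (Subtype.ext ?_)
  rw [← h]
  rfl

end Groth.Agent.ASCoverLib
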