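import Mathlib

/-!
# The twisted substitution `h ↦ u ^ a * h (X u)` of an Artin-Schreier cover

Here `u ^ n * (1 + X ^ n) = 1`: the substitution `X ↦ X u` has order the characteristic.
-/

set_option autoImplicit false

universe u

open PowerSeries

namespace Groth.Agent.ASCoverLib

variable {k : Type u} [Field k] {n : ℕ}

/-- An `n`-th root of a series `≡ 1` modulo `X ^ n` with constant term `1` is `≡ 1`, with known first coefficient. -/
theorem exists_eq_one_add (hn0 : (n : k) ≠ 0) {w z : k⟦X⟧} (hw : constantCoeff w = 1)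
    (h : w ^ n = 1 + X ^ n * z) :
    ∃ r, w = 1 + X ^ n * r ∧ (n : k) * constantCoeff r = constantCoeff z := by
  let S := ∑ i ∈ Finset.range n, w ^ i
  have hS : constantCoeff S = (n : k) := by simp [S, hw]
  have hu : IsUnit S := isUnit_iff_constantCoeff.mpr (hS ▸ isUnit_iff_ne_zero.mpr hn0)
  have h1 : (w - 1) * S = X ^ n * z := by rw [mul_comm, geom_sum_mul, h]; ring
  refine ⟨z * ↑hu.unit⁻¹, ?_, ?_⟩
  · have := congrArg (· * (↑hu.unit⁻¹ : k⟦X⟧)) h1
    simp only [mul_assoc, IsUnit.mul_val_inv, mul_one] at this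
    linear_combination this
  · rw [← hS, ← map_mul]
    congr 1
    rw [mul_comm z, ← mul_assoc, IsUnit.mul_val_inv, one_mul]

/-- Integer powers of a series `≡ 1` modulo `X ^ n`. -/
theorem exists_zpow_eq_one_add (hn : 0 < n) (U : (k⟦X⟧)ˣ) {r : k⟦X⟧} (hU : (U : k⟦X⟧) = 1 + X ^ n * r) (e : ℤ) :
    ∃ t, ((U ^ e : (k⟦X⟧)ˣ) : k⟦X⟧) = 1 + X ^ n * t ∧ constantCoeff t = (e : k) * constantCoeff r := by
  have hc : constantCoeff (↑U⁻¹ : k⟦X⟧) = 1 := by
    have h := congrArg constantCoeff U.mul_inv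
    rw [map_mul, map_one, hU] at h
    simpa [hn.ne'] using h
  induction e using Int.induction_on with
  | zero => exact ⟨0, by simp, by simp⟩
  | succ i ih =>
    obtain ⟨t, ht, htc⟩ := ih
    refine ⟨t + r + X ^ n * (t * r), ?_, ?_⟩
    · rw [zpow_add_one, Units.val_mul, ht, hU]; ring
    · push_cast at htc ⊢
      simp [htc, hn.ne']
      ring
  | pred i ih =>
    obtain ⟨t, ht, htc⟩ := ih
    refine ⟨(t - r) * ↑U⁻¹, ?_, ?_⟩
    · rw [zpow_sub_one, Units.val_mul, ht]
      have := U.mul_inv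
      rw [hU] at this
      linear_combination this
    · simp only [map_mul, map_sub, hc, mul_one, htc]
      push_cast
      ring

variable {u : k⟦X⟧}

theorem hasSubst (u : k⟦X⟧) : HasSubst (X * u) := HasSubst.of_constantCoeff_zero' (by simp)

/-- Substituting `X u` does not change a series modulo `X ^ n`. -/
theorem dvd_subst_sub {r : k⟦X⟧} (hu : u = 1 + X ^ n * r) (h : k⟦X⟧) :
    X ^ n ∣ PowerSeries.subst (X * u) h - h := by
  let σ : k⟦X⟧ →ₐ[k] k⟦X⟧ := substAlgHom (hasSubst u)
  have hX : σ X = X * u := substAlgHom_X (hasSubst u)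
  let q := Ideal.Quotient.mk (Ideal.span {(X : k⟦X⟧) ^ n})
  suffices q (σ h) = q h by
    rw [Ideal.Quotient.eq, Ideal.mem_span_singleton] at this
    simpa [σ, coe_substAlgHom] using this
  have hq : q (X ^ n) = 0 := Ideal.Quotient.eq_zero_iff_mem.mpr (Ideal.mem_span_singleton_self _)
  have hqu : q u = 1 := by rw [hu, map_add, map_mul, hq, zero_mul, add_zero, map_one]
  obtain ⟨h', hh'⟩ : X ^ n ∣ h - (trunc n h : k⟦X⟧) := by
    rw [X_pow_dvd_iff]
    intro m hm
    simp [coeff_trunc, hm]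
  have hpoly : ∀ P : Polynomial k, q (σ (P : k⟦X⟧)) = q (P : k⟦X⟧) := by
    intro P
    have : ((q.comp σ.toRingHom).comp Polynomial.coeToPowerSeries.ringHom) =
        q.comp Polynomial.coeToPowerSeries.ringHom := by
      refine Polynomial.ringHom_ext (fun c => ?_) ?_
      · simp [← PowerSeries.algebraMap_eq]
      · simp [hX, hqu]
    exact congr($this P)
  have e : h = (trunc n h : k⟦X⟧) + X ^ n * h' := by rw [← hh']; ring
  rw [e, map_add, map_mul σ, map_pow σ, hX, map_add, map_mul, map_pow, map_mul q X u, hqu, mul_one,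
    ← map_pow, hq, zero_mul, hpoly, map_add, map_mul, hq, zero_mul]

/-- A product invariant: `v` with `u ^ p * v (X u) = v` and `v ≡ 1` modulo `X ^ n`. -/
theorem exists_invariant (p : ℕ) [Fact p.Prime] [CharP k p] (hn : 0 < n) (hn0 : (n : k) ≠ 0)
    (hu1 : constantCoeff u = 1) (hun : u ^ n * (1 + X ^ n) = 1) :
    ∃ v r : k⟦X⟧, v = 1 + X ^ n * r ∧ u ^ p * PowerSeries.subst (X * u) v = v := by
  let σ : k⟦X⟧ →ₐ[k] k⟦X⟧ := substAlgHom (hasSubst u)
  have hX : σ X = X * u := substAlgHom_X (hasSubst u)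
  let w : ℕ → k⟦X⟧ := fun i => (fun z => u * σ z)^[i] 1
  have hw : ∀ i, w (i + 1) = u * σ (w i) := fun i => Function.iterate_succ_apply' _ _ _
  have hinv : ∀ i, w i ^ n * (1 + (i : k⟦X⟧) * X ^ n) = 1 := by
    intro i
    induction i with
    | zero => simp [w]
    | succ i ih =>
      have h2 := congrArg σ ih
      simp only [map_mul, map_pow, map_add, map_one, map_natCast, hX] at h2
      rw [hw, mul_pow]
      push_cast
      linear_combination h2 + (σ (w i)) ^ n * hun
  have hconst : ∀ i, constantCoeff (w i) = 1 := by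
    intro i
    induction i with
    | zero => simp [w]
    | succ i ih =>
      obtain ⟨d, hd⟩ : X ∣ w i - C 1 := X_dvd_iff.mpr (by simp [ih])
      have e : w i = 1 + X * d := by rw [← hd]; simp
      rw [hw, map_mul, hu1, one_mul, e]
      simp [hX]
  have hp0 : (p : k⟦X⟧) = 0 := by rw [← map_natCast (C (R := k)), CharP.cast_eq_zero, map_zero]
  have hwp : w p = 1 := by
    have h := hinv p
    rw [hp0, zero_mul, add_zero, mul_one] at h
    obtain ⟨r, hr, -⟩ := exists_eq_one_add hn0 (hconst p) (z := 0) (by rw [h]; simp)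
    have h3 : (w p - 1) * ∑ i ∈ Finset.range n, w p ^ i = 0 := by rw [mul_comm, geom_sum_mul, h, sub_self]
    rcases mul_eq_zero.mp h3 with h4 | h4
    · exact sub_eq_zero.mp h4
    · exact absurd (by simpa [hconst p] using congrArg constantCoeff h4) hn0
  have hdiv : ∀ i, X ^ n ∣ w i - 1 := by
    intro i
    obtain ⟨r, hr, -⟩ := exists_eq_one_add hn0 (hconst i) (z := -((i : k⟦X⟧) * w i ^ n))
      (by linear_combination hinv i)
    exact ⟨r, by linear_combination hr⟩
  let v := ∏ i ∈ Finset.range p, w i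
  let q := Ideal.Quotient.mk (Ideal.span {(X : k⟦X⟧) ^ n})
  have hqv : q v = q 1 := by
    simp only [v, map_prod, map_one]
    refine Finset.prod_eq_one fun i _ => ?_
    rw [← map_one q, Ideal.Quotient.eq, Ideal.mem_span_singleton]
    exact hdiv i
  obtain ⟨r, hr⟩ := Ideal.mem_span_singleton.mp (Ideal.Quotient.eq.mp hqv)
  refine ⟨v, r, by linear_combination hr, ?_⟩
  show u ^ p * PowerSeries.subst (X * u) v = v
  rw [← coe_substAlgHom (hasSubst u)]
  show u ^ p * σ v = v
  have hpc : u ^ p = ∏ _i ∈ Finset.range p, u := by simp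
  rw [hpc, map_prod, ← Finset.prod_mul_distrib, ← Finset.prod_congr rfl fun i _ => hw i]
  have e1 := Finset.prod_range_succ' w p
  rw [Finset.prod_range_succ, hwp, mul_one] at e1
  rw [show w 0 = 1 from rfl, mul_one] at e1
  exact e1.symm

end Groth.Agent.ASCoverLib
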