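import Mathlib
import Groth.Agent.ASCoverLib.Twist
import Groth.Agent.ASCoverLib.CyclicH1
import Groth.Agent.S13864

/-!
# A basis of the first cohomology of the twisted substitution action

For `U ^ n * (1 + X ^ n) = 1` and `tw U a : h ↦ U ^ a * h (X U)`, the classes of
`X ^ (n - m) * t (a - m)`, `1 ≤ m ≤ n`, `p ∤ a - m`, where `X ^ n * t e = U ^ e - 1`, form a basis of `H¹`.
-/

set_option autoImplicit false

universe u

open PowerSeries

namespace Groth.Agent.ASCoverLib

variable {k : Type u} [Field k] {n : ℕ}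

/-- A series with constant term `1` and trivial `n`-th power is `1`. -/
theorem eq_one_of_pow_eq_one (hn0 : (n : k) ≠ 0) {w : k⟦X⟧} (hc : constantCoeff w = 1) (h : w ^ n = 1) :
    w = 1 := by
  have h3 : (w - 1) * ∑ i ∈ Finset.range n, w ^ i = 0 := by rw [mul_comm, geom_sum_mul, h, sub_self]
  rcases mul_eq_zero.mp h3 with h4 | h4
  · exact sub_eq_zero.mp h4
  · exact absurd (by simpa [hc] using congrArg constantCoeff h4) hn0

variable (U : (k⟦X⟧)ˣ)

/-- The substitution `X ↦ X U`. -/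
noncomputable def subU : k⟦X⟧ →ₐ[k] k⟦X⟧ := substAlgHom (hasSubst (U : k⟦X⟧))

theorem subU_apply (h : k⟦X⟧) : subU U h = PowerSeries.subst (X * (U : k⟦X⟧)) h := by
  rw [subU, coe_substAlgHom]

theorem subU_X : subU U (X : k⟦X⟧) = (X : k⟦X⟧) * (U : k⟦X⟧) := substAlgHom_X (hasSubst (U : k⟦X⟧))

/-- The twisted substitution. -/
noncomputable def tw (a : ℤ) : Module.End k k⟦X⟧ :=
  LinearMap.mulLeft k ((U ^ a : (k⟦X⟧)ˣ) : k⟦X⟧) * (subU U).toLinearMap

theorem tw_apply (a : ℤ) (h : k⟦X⟧) : tw U a h = ((U ^ a : (k⟦X⟧)ˣ) : k⟦X⟧) * subU U h := rfl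

/-- The iterates `U * U (X U) * ...`. -/
noncomputable def iterU : ℕ → (k⟦X⟧)ˣ
  | 0 => 1
  | i + 1 => U * Units.map (subU U).toMonoidHom (iterU i)

theorem val_iterU_succ (i : ℕ) : (iterU U (i + 1) : k⟦X⟧) = U * subU U (iterU U i) := rfl

theorem tw_X_pow_mul (a : ℤ) (i : ℕ) (h : k⟦X⟧) :
    tw U a (X ^ i * h) = X ^ i * tw U (a + i) h := by
  rw [tw_apply, tw_apply, map_mul, map_pow, subU_X, zpow_add, Units.val_mul, zpow_natCast,
    Units.val_pow_eq_pow_val]
  ring

theorem tw_pow_X_pow_mul (a : ℤ) (i j : ℕ) (h : k⟦X⟧) :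
    (tw U a ^ j) (X ^ i * h) = X ^ i * (tw U (a + i) ^ j) h := by
  induction j with
  | zero => simp
  | succ j ih => rw [pow_succ', Module.End.mul_apply, ih, tw_X_pow_mul, pow_succ', Module.End.mul_apply]

theorem tw_pow_one (e : ℤ) (j : ℕ) : (tw U e ^ j) 1 = ((iterU U j ^ e : (k⟦X⟧)ˣ) : k⟦X⟧) := by
  induction j with
  | zero => simp [iterU]
  | succ j ih =>
    rw [pow_succ', Module.End.mul_apply, ih, tw_apply, show iterU U (j + 1) = U * _ from rfl, mul_zpow,
      Units.val_mul, ← map_zpow]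
    rfl

variable {U}
variable (hU1 : constantCoeff (U : k⟦X⟧) = 1) (hUn : (U : k⟦X⟧) ^ n * (1 + X ^ n) = 1)
include hU1

theorem constantCoeff_subU (h : k⟦X⟧) : constantCoeff (subU U h) = constantCoeff h := by
  obtain ⟨d, hd⟩ : X ∣ h - C (constantCoeff h) := X_dvd_iff.mpr (by simp)
  have e : h = C (constantCoeff h) + X * d := by rw [← hd]; ring
  conv_lhs => rw [e]
  rw [map_add, map_mul, subU_X, ← PowerSeries.algebraMap_eq, AlgHom.commutes]
  simp [PowerSeries.algebraMap_eq]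

theorem constantCoeff_iterU (i : ℕ) : constantCoeff (iterU U i : k⟦X⟧) = 1 := by
  induction i with
  | zero => simp [iterU]
  | succ i ih => rw [val_iterU_succ, map_mul, hU1, constantCoeff_subU hU1, ih, one_mul]

include hUn

omit hU1 in
theorem iterU_pow (i : ℕ) : (iterU U i : k⟦X⟧) ^ n * (1 + (i : k⟦X⟧) * X ^ n) = 1 := by
  induction i with
  | zero => simp [iterU]
  | succ i ih =>
    have h2 := congrArg (subU U) ih
    simp only [map_mul, map_pow, map_add, map_one, map_natCast, subU_X] at h2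
    rw [val_iterU_succ, mul_pow]
    push_cast
    linear_combination h2 + (subU U (iterU U i)) ^ n * hUn

theorem iterU_eq_one_add (hn0 : (n : k) ≠ 0) (i : ℕ) :
    ∃ r, (iterU U i : k⟦X⟧) = 1 + X ^ n * r :=
  (exists_eq_one_add hn0 (constantCoeff_iterU hU1 i) (z := -((i : k⟦X⟧) * (iterU U i : k⟦X⟧) ^ n))
    (by linear_combination iterU_pow hUn i)).imp fun _ h => h.1

theorem exists_lead (hn : 0 < n) (hn0 : (n : k) ≠ 0) :
    ∃ t : ℤ → k⟦X⟧, ∀ e, X ^ n * t e = ((U ^ e : (k⟦X⟧)ˣ) : k⟦X⟧) - 1 ∧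
      (n : k) * constantCoeff (t e) = -(e : k) := by
  obtain ⟨r, hr, hrc⟩ := exists_eq_one_add hn0 hU1 (z := -(U : k⟦X⟧) ^ n) (by linear_combination hUn)
  choose t ht using exists_zpow_eq_one_add hn U hr
  refine ⟨t, fun e => ⟨by rw [(ht e).1]; ring, ?_⟩⟩
  rw [(ht e).2, mul_left_comm, hrc]
  simp [hU1]

variable (p : ℕ) [Fact p.Prime] [CharP k p]

theorem iterU_char (hn0 : (n : k) ≠ 0) : iterU U p = 1 := by
  refine Units.ext (eq_one_of_pow_eq_one hn0 (constantCoeff_iterU hU1 p) ?_)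
  have h := iterU_pow hUn p
  rwa [← map_natCast (C (R := k)) p, CharP.cast_eq_zero, map_zero, zero_mul, add_zero, mul_one] at h

/-- The sum over the iterates of the elements `X ^ (n - m) * t (a - m)` vanishes. -/
theorem norm_lead (hn0 : (n : k) ≠ 0) (t : ℤ → k⟦X⟧)
    (ht : ∀ e, X ^ n * t e = ((U ^ e : (k⟦X⟧)ˣ) : k⟦X⟧) - 1) (a : ℤ) (m : ℕ) (hm : m ≤ n) :
    ∑ j ∈ Finset.range p, (tw U a ^ j) (X ^ (n - m) * t (a - m)) = 0 := by
  refine mul_left_cancel₀ (pow_ne_zero m X_ne_zero) ?_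
  rw [mul_zero, Finset.mul_sum]
  have hterm : ∀ j ∈ Finset.range p, X ^ m * (tw U a ^ j) (X ^ (n - m) * t (a - m)) =
      (tw U (a - m) ^ (j + 1)) 1 - (tw U (a - m) ^ j) 1 := by
    intro j _
    have h := tw_pow_X_pow_mul U (a - m) m j (X ^ (n - m) * t (a - m))
    rw [sub_add_cancel] at h
    rw [← h, ← mul_assoc, ← pow_add, Nat.add_sub_cancel' hm, ht, map_sub, pow_succ, Module.End.mul_apply,
      tw_apply, map_one (subU U), mul_one]
  rw [Finset.sum_congr rfl hterm, Finset.sum_range_sub (fun j => (tw U (a - m) ^ j) 1), tw_pow_one,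
    iterU_char hU1 hUn p hn0]
  simp

omit hU1 hUn in
theorem sum_range_cast_pow (l : ℕ) (hl : l < p) :
    ∑ j ∈ Finset.range p, (-(j : k)) ^ l = if l = p - 1 then -1 else 0 := by
  have hZ : ∑ x : ZMod p, (-x) ^ l = if l = p - 1 then -1 else 0 := by
    rw [Fintype.sum_equiv (Equiv.neg (ZMod p)) (fun x => (-x) ^ l) (fun x => x ^ l) (fun _ => rfl)]
    split_ifs with h
    · subst h
      have h2 : ∀ x : ZMod p, x ^ (p - 1) = if x = 0 then 0 else 1 := fun x => by
        split_ifs with hx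
        · rw [hx, zero_pow (Nat.sub_ne_zero_of_lt (Fact.out : p.Prime).one_lt)]
        · exact ZMod.pow_card_sub_one_eq_one hx
      simp_rw [h2, Finset.sum_ite, Finset.sum_const_zero, zero_add, Finset.sum_const, nsmul_one]
      rw [show (Finset.univ.filter fun x : ZMod p => ¬x = 0) = Finset.univ.erase 0 by ext; simp]
      rw [Finset.card_erase_of_mem (Finset.mem_univ _), Finset.card_univ, ZMod.card,
        Nat.cast_sub (Fact.out : p.Prime).one_le, ZMod.natCast_self]
      simp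
    · exact FiniteField.sum_pow_lt_card_sub_one _ _ (by rw [ZMod.card]; omega)
  have h := congrArg (ZMod.castHom (dvd_refl p) k) hZ
  rw [map_sum, apply_ite (ZMod.castHom (dvd_refl p) k), map_neg, map_one, map_zero] at h
  simp only [map_pow, map_neg] at h
  refine Eq.trans ?_ h
  refine Finset.sum_nbij' (fun j => (j : ZMod p)) ZMod.val (by simp) (by simp [ZMod.val_lt]) ?_ (by simp) ?_
  · exact fun j hj => ZMod.val_cast_of_lt (Finset.mem_range.1 hj)
  · intro j _
    rw [map_natCast]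

/-- The norm of a monomial, in a position missed by the leading terms. -/
theorem norm_X_pow (hn : 0 < n) (hn0 : (n : k) ≠ 0) (a : ℤ) (d : ℕ) (hd : (p : ℤ) ∣ a + d - n) :
    ∃ y, ∑ j ∈ Finset.range p, (tw U a ^ j) (X ^ d) = X ^ (d + n * (p - 1)) * y ∧ constantCoeff y = -1 := by
  obtain ⟨q, hq⟩ := hd
  have hp0 : (p : k⟦X⟧) = 0 := by rw [← map_natCast (C (R := k)), CharP.cast_eq_zero, map_zero]
  have hj : ∀ j, ∃ z, ((iterU U j ^ (a + d) : (k⟦X⟧)ˣ) : k⟦X⟧) =
      (∑ l ∈ Finset.range p, C ((-(j : k)) ^ l) * X ^ (n * l)) + X ^ (n * p) * z := by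
    intro j
    obtain ⟨r, hr⟩ := iterU_eq_one_add hU1 hUn hn0 j
    obtain ⟨z, hz, -⟩ := exists_zpow_eq_one_add (Nat.mul_pos hn (Fact.out : p.Prime).pos) (iterU U j ^ p)
      (r := r ^ p) (by
        have : CharP k⟦X⟧ p := charP_of_injective_ringHom (C_injective (R := k)) p
        rw [Units.val_pow_eq_pow_val, hr, add_pow_char, one_pow, mul_pow, pow_mul]) q
    have e : a + (d : ℤ) = n + p * q := by omega
    have hgeom : (∑ l ∈ Finset.range p, C ((-(j : k)) ^ l) * X ^ (n * l)) * (1 + (j : k⟦X⟧) * X ^ n) =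
        1 - (-(j : k⟦X⟧)) ^ p * X ^ (n * p) := by
      have h1 : ∀ l, C ((-(j : k)) ^ l) * X ^ (n * l) = (-(j : k⟦X⟧) * X ^ n) ^ l := fun l => by
        rw [map_pow, map_neg, map_natCast, mul_pow, pow_mul]
      simp only [h1]
      have h2 := geom_sum_mul_neg (-(j : k⟦X⟧) * X ^ n) p
      rw [mul_pow, ← pow_mul] at h2
      linear_combination h2
    refine ⟨(iterU U j : k⟦X⟧) ^ n * (z + (-(j : k⟦X⟧)) ^ p), ?_⟩
    rw [e, zpow_add, Units.val_mul, zpow_natCast, Units.val_pow_eq_pow_val, zpow_mul, zpow_natCast, hz]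
    linear_combination (-(iterU U j : k⟦X⟧) ^ n) * hgeom +
      (∑ l ∈ Finset.range p, C ((-(j : k)) ^ l) * X ^ (n * l)) * iterU_pow hUn j
  choose z hz using hj
  have hpp := (Fact.out : p.Prime).pos
  refine ⟨-1 + X ^ n * ∑ j ∈ Finset.range p, z j, ?_, by simp [hn.ne']⟩
  have hterm : ∀ j ∈ Finset.range p, (tw U a ^ j) (X ^ d) =
      X ^ d * ((∑ l ∈ Finset.range p, C ((-(j : k)) ^ l) * X ^ (n * l)) + X ^ (n * p) * z j) := fun j _ => by
    rw [← mul_one (X ^ d : k⟦X⟧), tw_pow_X_pow_mul, tw_pow_one, hz, mul_one]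
  rw [Finset.sum_congr rfl hterm, ← Finset.mul_sum, Finset.sum_add_distrib, Finset.sum_comm, ← Finset.mul_sum]
  simp only [← Finset.sum_mul, ← map_sum]
  rw [Finset.sum_congr rfl fun l hl => by rw [sum_range_cast_pow p l (Finset.mem_range.1 hl)]]
  rw [Finset.sum_eq_single_of_mem (p - 1) (Finset.mem_range.2 (by omega)) (fun l _ hl => by simp [hl]), if_pos rfl,
    map_neg, map_one, show n * p = n * (p - 1) + n by rw [← Nat.mul_succ]; congr 1; omega, pow_add, pow_add]
  ring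

omit p [Fact p.Prime] [CharP k p] hU1 in
/-- `tw - 1` raises the order by `n`. -/
theorem tw_sub_self_dvd (hn : 0 < n) (hn0 : (n : k) ≠ 0) (hU1 : constantCoeff (U : k⟦X⟧) = 1) (a : ℤ) (i : ℕ)
    (h : k⟦X⟧) : X ^ (i + n) ∣ tw U a (X ^ i * h) - X ^ i * h := by
  obtain ⟨r, hr, -⟩ := exists_eq_one_add hn0 hU1 (z := -(U : k⟦X⟧) ^ n) (by linear_combination hUn)
  obtain ⟨t, ht, -⟩ := exists_zpow_eq_one_add hn U hr (a + i)
  obtain ⟨d, hd⟩ := dvd_subst_sub hr h
  refine ⟨t * subU U h + d, ?_⟩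
  rw [tw_X_pow_mul, tw_apply, ht, pow_add]
  rw [← subU_apply] at hd
  linear_combination (X ^ i : k⟦X⟧) * hd

omit p [Fact p.Prime] [CharP k p] in
theorem dvd_norm_of_dvd (a : ℤ) (i q : ℕ) (h : k⟦X⟧) :
    X ^ i ∣ ∑ j ∈ Finset.range q, (tw U a ^ j) (X ^ i * h) :=
  ⟨∑ j ∈ Finset.range q, (tw U (a + i) ^ j) h, by simp only [tw_pow_X_pow_mul, Finset.mul_sum]⟩

/-- An element killed by the norm and supported on the missed positions is zero. -/
theorem eq_zero_of_norm (hn : 0 < n) (hn0 : (n : k) ≠ 0) (a : ℤ) (w : k⟦X⟧)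
    (hw : ∀ d : ℕ, ¬ (p : ℤ) ∣ a + d - n → coeff d w = 0)
    (hN : ∑ j ∈ Finset.range p, (tw U a ^ j) w = 0) : w = 0 := by
  ext d
  induction d using Nat.strongRecOn with
  | _ d ih =>
  rw [map_zero]
  by_contra hne
  set M := d + n * (p - 1) + 1 with hM
  obtain ⟨w', hw'⟩ : X ^ M ∣ w - ∑ i ∈ Finset.range M, coeff i w • (X : k⟦X⟧) ^ i := by
    rw [X_pow_dvd_iff]
    intro i hi
    simp [coeff_X_pow, map_sum, hi]
  have e : w = (∑ i ∈ Finset.range M, coeff i w • (X : k⟦X⟧) ^ i) + X ^ M * w' := by rw [← hw']; ring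
  rw [e] at hN
  simp only [map_add, map_sum, map_smul, Finset.sum_add_distrib] at hN
  rw [Finset.sum_comm] at hN
  simp only [← Finset.smul_sum] at hN
  have h := congrArg (coeff (d + n * (p - 1))) hN
  rw [map_zero, map_add, map_sum, X_pow_dvd_iff.1 (dvd_norm_of_dvd hU1 hUn a M p w') _ (by omega), add_zero] at h
  rw [Finset.sum_eq_single_of_mem d (Finset.mem_range.2 (by omega))] at h
  · have hbad : (p : ℤ) ∣ a + d - n := by
      by_contra hb
      exact hne (hw d hb)
    obtain ⟨y, hy, hy0⟩ := norm_X_pow hU1 hUn p hn hn0 a d hbad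
    rw [map_smul, hy, coeff_X_pow_mul', if_pos le_rfl, Nat.sub_self, coeff_zero_eq_constantCoeff, hy0] at h
    exact hne (by simpa using h)
  · intro i _ hid
    by_cases hi : coeff i w = 0
    · simp [hi]
    have hbad : (p : ℤ) ∣ a + i - n := by
      by_contra hb
      exact hi (hw i hb)
    have hlt : d < i := by
      rcases lt_or_gt_of_ne hid with hlt | hlt
      · exact absurd (by simpa using ih i hlt) hi
      · exact hlt
    obtain ⟨y, hy, -⟩ := norm_X_pow hU1 hUn p hn hn0 a i hbad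
    rw [map_smul, hy, coeff_X_pow_mul', if_neg (by omega), smul_zero]

/-- Every element killed by the norm is a combination of the leading elements modulo `tw - 1`. -/
theorem exists_decomp (hn : 0 < n) (hn0 : (n : k) ≠ 0) (t : ℤ → k⟦X⟧)
    (ht : ∀ e, X ^ n * t e = ((U ^ e : (k⟦X⟧)ˣ) : k⟦X⟧) - 1 ∧ (n : k) * constantCoeff (t e) = -(e : k))
    (a : ℤ) (hord : tw U a ^ p = 1) (z : k⟦X⟧) (hz : ∑ j ∈ Finset.range p, (tw U a ^ j) z = 0) :
    ∃ H : k⟦X⟧, z - (tw U a H - H) ∈
      Submodule.span k ((fun m : ℕ => X ^ (n - m) * t (a - m)) ''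
        {m | m ∈ Finset.Icc 1 n ∧ ¬ (p : ℤ) ∣ a - m}) := by
  classical
  let E : ℕ → k⟦X⟧ := fun d => X ^ d * t (a + d - n)
  let lam : ℕ → k⟦X⟧ → k := fun d y => coeff d y / constantCoeff (t (a + d - n))
  let R : ℕ → k⟦X⟧ := fun d => Nat.rec z (fun d y => y - lam d y • E d) d
  let c : ℕ → k := fun d => lam d (R d)
  have hR : ∀ d, R (d + 1) = R d - c d • E d := fun d => rfl
  have hlead : ∀ d, (constantCoeff (t (a + (d : ℤ) - n)) = 0 ↔ (p : ℤ) ∣ a + d - n) := fun d => by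
    rw [← CharP.intCast_eq_zero_iff k p, ← neg_eq_zero (a := ((a + (d : ℤ) - n : ℤ) : k)), ← (ht _).2,
      mul_eq_zero, or_iff_right hn0]
  have hgood : ∀ d : ℕ, ¬ (p : ℤ) ∣ a + d - n → coeff d (R (d + 1)) = 0 := fun d hd => by
    rw [hR, map_sub, map_smul, coeff_X_pow_mul', if_pos le_rfl, Nat.sub_self, coeff_zero_eq_constantCoeff,
      smul_eq_mul, div_mul_cancel₀ _ (fun h => hd ((hlead d).1 h)), sub_self]
  have hR' : ∀ d, R d = z - ∑ j ∈ Finset.range d, c j • E j := fun d => by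
    induction d with
    | zero => simp [R]
    | succ d ih => rw [hR, ih, Finset.sum_range_succ, sub_sub]
  have hE : ∀ i : ℕ, E (i + n) = tw U a (X ^ i) - X ^ i := fun i => by
    have h1 := tw_X_pow_mul U a i 1
    rw [mul_one, tw_apply U (a + i), map_one (subU U), mul_one] at h1
    show X ^ (i + n) * t (a + ((i + n : ℕ) : ℤ) - n) = _
    rw [h1, show a + ((i + n : ℕ) : ℤ) - n = a + i by push_cast; ring, pow_add, mul_assoc, (ht _).1]
    ring
  let H : k⟦X⟧ := PowerSeries.mk fun i => c (i + n)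
  let w := R n - (tw U a H - H)
  have hw : ∀ d : ℕ, ¬ (p : ℤ) ∣ a + d - n → coeff d w = 0 := by
    intro d hd
    let N := d + 1 - n
    obtain ⟨H', hH'⟩ : X ^ N ∣ H - ∑ i ∈ Finset.range N, c (i + n) • (X : k⟦X⟧) ^ i := by
      rw [X_pow_dvd_iff]
      intro i hi
      simp [H, coeff_X_pow, map_sum, hi]
    have hw' : w = R n - (∑ i ∈ Finset.range N, c (i + n) • E (i + n)) - (tw U a (X ^ N * H') - X ^ N * H') := by
      have e : H = (∑ i ∈ Finset.range N, c (i + n) • (X : k⟦X⟧) ^ i) + X ^ N * H' := by rw [← hH']; ring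
      simp only [w, hE, smul_sub, Finset.sum_sub_distrib]
      rw [e]
      simp only [map_add, map_sum, map_smul]
      ring
    rw [hw', map_sub, X_pow_dvd_iff.1 (tw_sub_self_dvd hUn hn hn0 hU1 a N H') d (by omega), sub_zero]
    by_cases hdn : d < n
    · rw [show N = 0 by omega, Finset.sum_range_zero, sub_zero, hR' n, map_sub,
        ← hgood d hd, hR' (d + 1), map_sub]
      congr 1
      simp only [map_sum]
      refine (Finset.sum_subset (Finset.range_mono (by omega)) fun i _ hi => ?_).symm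
      rw [Finset.mem_range] at hi
      rw [map_smul, coeff_X_pow_mul', if_neg (by omega), smul_zero]
    · rw [show R n - ∑ i ∈ Finset.range N, c (i + n) • E (i + n) = R (d + 1) from ?_]
      · exact hgood d hd
      rw [hR' n, hR' (d + 1), show d + 1 = n + N by omega, Finset.sum_range_add, ← sub_sub]
      simp only [add_comm n]
  have hwN : ∑ j ∈ Finset.range p, (tw U a ^ j) w = 0 := by
    have hD : ∀ y, ∑ j ∈ Finset.range p, (tw U a ^ j) (tw U a y - y) = (tw U a ^ p) y - y := fun y => by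
      simp only [map_sub, ← Module.End.mul_apply, ← pow_succ]
      rw [Finset.sum_range_sub (fun j => (tw U a ^ j) y)]
      simp
    have hp' : ∀ y, (tw U a ^ p) y = y := fun y => by rw [hord]; rfl
    simp only [w, hR', map_sub, map_sum, map_smul, Finset.sum_sub_distrib]
    rw [hz, ← Finset.sum_sub_distrib]
    simp only [← map_sub]
    rw [hD, hp', sub_self, sub_zero, Finset.sum_comm]
    simp only [← Finset.smul_sum]
    rw [Finset.sum_eq_zero, sub_zero]
    intro i hi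
    rw [Finset.mem_range] at hi
    have := norm_lead hU1 hUn p hn0 t (fun e => (ht e).1) a (n - i) (by omega)
    rw [show n - (n - i) = i by omega, show a - ((n - i : ℕ) : ℤ) = a + i - n by omega] at this
    rw [show E i = X ^ i * t (a + i - n) from rfl, this, smul_zero]
  have hw0 : w = 0 := eq_zero_of_norm hU1 hUn p hn hn0 a w hw hwN
  refine ⟨H, ?_⟩
  have e : z - (tw U a H - H) = ∑ j ∈ Finset.range n, c j • E j := by
    have h := hw0
    simp only [w, hR' n] at h
    linear_combination h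
  rw [e]
  refine Submodule.sum_mem _ fun j hj => ?_
  rw [Finset.mem_range] at hj
  by_cases hb : (p : ℤ) ∣ a + j - n
  · have : c j = 0 := by simp [c, lam, (hlead j).2 hb]
    simp [this]
  · refine Submodule.smul_mem _ _ (Submodule.subset_span ⟨n - j, ⟨Finset.mem_Icc.2 (by omega), ?_⟩, ?_⟩)
    · rwa [show a - ((n - j : ℕ) : ℤ) = a + j - n by omega]
    · show X ^ (n - (n - j)) * t (a - ((n - j : ℕ) : ℤ)) = X ^ j * t (a + j - n)
      rw [show n - (n - j) = j by omega, show a - ((n - j : ℕ) : ℤ) = a + j - n by omega]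

end Groth.Agent.ASCoverLib
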