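import Mathlib
import Groth.Agent.ASCoverLib.H1Twist
import Groth.Agent.S13864

/-!
# The classes of the leading elements form a basis of `H¹`
-/

set_option autoImplicit false

universe u

open PowerSeries

namespace Groth.Agent.ASCoverLib

variable {k : Type u} [Field k] {n : ℕ} {U : (k⟦X⟧)ˣ}

/-- The indices of the basis classes. -/
def basisIdx (p n : ℕ) (a : ℤ) : Finset ℕ := (Finset.Icc 1 n).filter fun m : ℕ => ¬ (p : ℤ) ∣ a - m

variable (p : ℕ) [Fact p.Prime] [CharP k p] {G : Type u} [Group G] [Finite G] {g : G}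
variable (hG : Nat.card G = p) (hg : ∀ x : G, x ∈ Subgroup.zpowers g) {a : ℤ}
variable {ρ : Representation k G k⟦X⟧}

include hG hg

omit [Fact p.Prime] [CharP k p] [Finite G] in
theorem orderOf_gen : orderOf g = p := (orderOf_eq_card_of_forall_mem_zpowers hg).trans hG

variable (hρ : ρ g = tw U a) (hU1 : constantCoeff (U : k⟦X⟧) = 1)
  (hUn : (U : k⟦X⟧) ^ n * (1 + X ^ n) = 1) (hn0 : (n : k) ≠ 0)
  {t : ℤ → k⟦X⟧} (ht : ∀ e, X ^ n * t e = ((U ^ e : (k⟦X⟧)ˣ) : k⟦X⟧) - 1)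
include hρ hU1 hUn hn0 ht

omit [Finite G] in
theorem lead_mem_normKer (m : ℕ) (hm : m ≤ n) :
    X ^ (n - m) * t (a - m) ∈ normKer (Rep.of ρ) g := by
  rw [mem_normKer, orderOf_gen p hG hg]
  show ∑ i ∈ Finset.range p, (ρ g ^ i) _ = 0
  rw [hρ]
  exact norm_lead hU1 hUn p hn0 t ht a m hm

/-- The class of the `m`th leading element. -/
noncomputable def leadClass (m : ℕ) : groupCohomology.H1 (Rep.of ρ) :=
  if hm : m ≤ n then
    classMap (Rep.of ρ) hg ⟨X ^ (n - m) * t (a - m), lead_mem_normKer p hG hg hρ hU1 hUn hn0 ht m hm⟩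
  else 0

variable (hn : 0 < n) [IsAlgClosed k]
  (htc : ∀ e, (n : k) * constantCoeff (t e) = -(e : k))
include hn

theorem leadClass_linearIndependent (hpn : ¬ p ∣ n) :
    LinearIndependent k fun m : basisIdx p n a => leadClass p hG hg hρ hU1 hUn hn0 ht m := by
  classical
  rw [Fintype.linearIndependent_iff]
  intro l hl m
  let coef : ℕ → k := fun i => if hi : i ∈ basisIdx p n a then l ⟨i, hi⟩ else 0
  have hle : ∀ i : basisIdx p n a, (i : ℕ) ≤ n := fun i =>
    (Finset.mem_Icc.1 (Finset.mem_filter.1 i.2).1).2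
  let x : normKer (Rep.of ρ) g :=
    ∑ i : basisIdx p n a, l i • ⟨X ^ (n - (i : ℕ)) * t (a - (i : ℕ)),
      lead_mem_normKer p hG hg hρ hU1 hUn hn0 ht i (hle i)⟩
  have h0 : classMap (Rep.of ρ) hg x = 0 := by
    rw [map_sum]
    refine Eq.trans (Finset.sum_congr rfl fun i _ => ?_) hl
    rw [map_smul, leadClass, dif_pos (hle i)]
  obtain ⟨y, hy⟩ := (classMap_eq_zero_iff hg x).1 h0
  let h : k⟦X⟧ := y
  have hu : IsUnit (U : k⟦X⟧) := U.isUnit
  have huU : hu.unit = U := Units.ext rfl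
  have := Groth.Agent.S13864.result p n hn hpn (U : k⟦X⟧) hU1 hUn hu a (fun i => X ^ (n - i) * t (a - i))
    (fun i _ hi => by rw [huU, ← mul_assoc, ← pow_add, Nat.add_sub_cancel' hi, ht]) coef h
    (by
      rw [huU, ← subU_apply, ← tw_apply, ← hρ]
      refine hy.trans ?_
      rw [AddSubmonoidClass.coe_finsetSum]
      show ∑ i : basisIdx p n a, l i • (X ^ (n - (i : ℕ)) * t (a - (i : ℕ))) =
        ∑ i ∈ basisIdx p n a, coef i • (X ^ (n - i) * t (a - i))
      rw [← Finset.sum_attach (basisIdx p n a)]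
      exact Finset.sum_congr rfl fun i _ => by simp [coef, i.2])
    m.1 m.2
  simpa [coef, m.2] using this

include htc

omit [IsAlgClosed k] in
theorem leadClass_span :
    Submodule.span k (Set.range fun m : basisIdx p n a => leadClass p hG hg hρ hU1 hUn hn0 ht m) = ⊤ := by
  rw [eq_top_iff]
  intro c _
  obtain ⟨⟨z, hz⟩, rfl⟩ := classMap_surjective hg c
  have hz' : ∑ j ∈ Finset.range p, (tw U a ^ j) z = 0 := by
    have h := mem_normKer.1 hz
    rw [orderOf_gen p hG hg] at h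
    rw [← hρ]
    exact h
  have hord : tw U a ^ p = 1 := by
    rw [← hρ, ← map_pow, ← orderOf_gen p hG hg, pow_orderOf_eq_one, map_one]
  obtain ⟨H, hH⟩ := exists_decomp hU1 hUn p hn hn0 t (fun e => ⟨ht e, htc e⟩) a hord z hz'
  rw [show (fun m : ℕ => X ^ (n - m) * t (a - m)) '' {m | m ∈ Finset.Icc 1 n ∧ ¬ (p : ℤ) ∣ a - m} =
      Set.range (fun m : basisIdx p n a => X ^ (n - (m : ℕ)) * t (a - (m : ℕ))) from by
    ext y
    constructor
    · rintro ⟨m, ⟨h1, h2⟩, rfl⟩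
      exact ⟨⟨m, Finset.mem_filter.2 ⟨h1, h2⟩⟩, rfl⟩
    · rintro ⟨m, rfl⟩
      exact ⟨m, Finset.mem_filter.1 m.2, rfl⟩] at hH
  obtain ⟨l, hl⟩ := (Submodule.mem_span_range_iff_exists_fun k).1 hH
  refine (Submodule.mem_span_range_iff_exists_fun k).2 ⟨l, ?_⟩
  have hle : ∀ i : basisIdx p n a, (i : ℕ) ≤ n := fun i =>
    (Finset.mem_Icc.1 (Finset.mem_filter.1 i.2).1).2
  let x : normKer (Rep.of ρ) g :=
    ∑ i : basisIdx p n a, l i • ⟨X ^ (n - (i : ℕ)) * t (a - (i : ℕ)),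
      lead_mem_normKer p hG hg hρ hU1 hUn hn0 ht i (hle i)⟩
  refine Eq.trans (b := classMap (Rep.of ρ) hg x) ?_ ?_
  · rw [map_sum]
    exact Finset.sum_congr rfl fun i _ => by rw [map_smul, leadClass, dif_pos (hle i)]
  · refine (sub_eq_zero.1 ?_).symm
    rw [← map_sub, classMap_eq_zero_iff]
    refine ⟨H, ?_⟩
    show ρ g H - H = z - (x : k⟦X⟧)
    have hx : (x : k⟦X⟧) = z - (tw U a H - H) := by
      rw [← hl]
      exact map_sum (normKer (Rep.of ρ) g).subtype _ _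
    rw [hx, hρ]
    ring

end Groth.Agent.ASCoverLib
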